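import Cfsg.Agent.Lib.GorensteinWalter.ModelsC.Abstract
import Cfsg.Agent.Lib.GorensteinWalter.ModelAlt

/-!
# Models of section C: the model `A₇`
-/

set_option autoImplicit false
set_option linter.unusedSectionVars false
set_option linter.style.haveILetI false

universe u

namespace Cfsg.Agent.Lib.GorensteinWalter.ModelsC

open Cfsg.Agent.Lib.Fusion.Dihedral Cfsg.Agent.Lib.GorensteinWalter.Model

local notation "S7" => Equiv.Perm (Fin 7)

variable {X : Type u} [Group X] [Finite X]

/-- A normal `A₇` with trivial centralizer is everything. -/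
theorem alt_top (L : Subgroup X) [L.Normal] (e : L ≃* alternatingGroup (Fin 7))
    (hc : Subgroup.centralizer (L : Set X) = ⊥) (hD : HasDihedralSylow X) : L = ⊤ := by
  classical
  have h4 : 4 ≤ Fintype.card (Fin 7) := by decide
  have h6 : Fintype.card (Fin 7) ≠ 6 := by decide
  let π : X →* S7 := (Alternating.autEquiv h4 h6).symm.toMonoidHom.comp (autHom L e)
  have hπ : Function.Injective π :=
    (Alternating.autEquiv h4 h6).symm.injective.comp (autHom_injective L e hc)
  have hπL : ∀ a : alternatingGroup (Fin 7), π (e.symm a : X) = (a : S7) := by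
    intro a
    show (Alternating.autEquiv h4 h6).symm (autHom L e (e.symm a : X)) = _
    rw [autHom_of_mem, MulEquiv.apply_symm_apply, MulEquiv.symm_apply_eq]
    refine MulEquiv.ext fun b => Subtype.ext ?_
    change ((a * b * a⁻¹ : alternatingGroup (Fin 7)) : S7) = (MulAut.conjNormal (a : S7) b : S7)
    rw [MulAut.conjNormal_apply]
    simp
  have hsign : ∀ x, Equiv.Perm.sign (π x) = 1 := by
    intro x
    by_contra hx
    have hodd : Equiv.Perm.sign (π x) = -1 := (Int.units_eq_one_or _).resolve_left hx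
    have hsurj : ∀ p : S7, ∃ y, π y = p := by
      intro p
      by_cases hp : Equiv.Perm.sign p = 1
      · exact ⟨_, hπL ⟨p, Equiv.Perm.mem_alternatingGroup.2 hp⟩⟩
      · have hp' : Equiv.Perm.sign p = -1 := (Int.units_eq_one_or _).resolve_left hp
        refine ⟨(e.symm ⟨p * (π x)⁻¹, Equiv.Perm.mem_alternatingGroup.2 ?_⟩ : X) * x, ?_⟩
        · rw [map_mul, map_inv, hp', hodd]; decide
        · rw [map_mul, hπL]; exact inv_mul_cancel_right p (π x)
    obtain ⟨w, hw⟩ := hsurj (Equiv.swap 0 1)
    obtain ⟨a, ha⟩ := hsurj (Equiv.swap 2 3)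
    obtain ⟨b, hb⟩ := hsurj (Equiv.swap 4 5)
    refine no_eight hD (w := w) (a := a) (b := b) (hπ ?_) (hπ ?_) (hπ ?_) (hπ ?_) (hπ ?_) (hπ ?_)
      (fun h => ?_) (fun h => ?_) (fun h => ?_) (fun h => ?_) (fun h => ?_) (fun h => ?_)
      (fun h => ?_)
    all_goals first
      | (rw [map_mul, hw, map_one]; decide)
      | (rw [map_mul, ha, map_one]; decide)
      | (rw [map_mul, hb, map_one]; decide)
      | (simp only [map_mul, hw, ha, hb]; decide)
      | (replace h := congrArg π h; simp only [map_mul, map_one, hw, ha, hb] at h; revert h; decide)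
  refine eq_top_iff.2 fun x _ => ?_
  have h := hπL ⟨π x, Equiv.Perm.mem_alternatingGroup.2 (hsign x)⟩
  exact hπ h ▸ SetLike.coe_mem _

/-- An element of order four of `A₇` centralizes no three-cycle on the fixed points of its square. -/
theorem four_not_commute {r k : S7} (hr : r * r * (r * r) = 1) (hr2 : r * r ≠ 1)
    (hsgn : Equiv.Perm.sign r = 1) (hk : k.support = (r * r).supportᶜ) (hk3 : k.support.card = 3)
    (hc : r * k = k * r) : False := by
  classical
  have ho : orderOf r = 4 := by
    have h1 := orderOf_eq_prime_pow (p := 2) (n := 1) (x := r) (by rw [pow_one, sq]; exact hr2)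
      (by rw [show (2 : ℕ) ^ (1 + 1) = 2 + 2 from rfl, pow_add, sq]; exact hr)
    simpa using h1
  haveI : Fact (Nat.Prime 2) := ⟨Nat.prime_two⟩
  obtain ⟨y, hy⟩ := Equiv.Perm.exists_fixed_point_of_prime (p := 2) (n := 2) (α := Fin 7)
    (by decide) (σ := r) (by rw [show (2 : ℕ) ^ 2 = 4 from rfl, ← ho, pow_orderOf_eq_one])
  -- the fixed points of `r` are the three moved points of `k`
  have hyk : y ∈ k.support := by
    rw [hk, Finset.mem_compl, Equiv.Perm.notMem_support, Equiv.Perm.mul_apply, hy, hy]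
  have hfix : ∀ z ∈ k.support, r z = z := by
    intro z hz
    have h3 : orderOf k = 3 := (card_support_eq_three_iff.1 hk3).orderOf
    have hcyc : k.IsCycle := (card_support_eq_three_iff.1 hk3).isCycle
    obtain ⟨i, rfl⟩ := hcyc.exists_pow_eq (Equiv.Perm.mem_support.1 hyk) (Equiv.Perm.mem_support.1 hz)
    rw [← Equiv.Perm.mul_apply, ((show Commute r k from hc).pow_right i).eq, Equiv.Perm.mul_apply, hy]
  have hsub : r.support ⊆ k.supportᶜ := by
    intro z hz
    rw [Finset.mem_compl]
    exact fun h => Equiv.Perm.mem_support.1 hz (hfix z h)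
  have hle : r.support.card ≤ 4 := by
    have := Finset.card_le_card hsub
    rw [Finset.card_compl, hk3, Fintype.card_fin] at this
    exact this
  -- a permutation of order four on at most four points is a four-cycle
  have hlcm : r.cycleType.lcm = 4 := by rw [Equiv.Perm.lcm_cycleType, ho]
  have hsum : r.cycleType.sum ≤ 4 := by rw [Equiv.Perm.sum_cycleType]; exact hle
  have h4 : (4 : ℕ) ∈ r.cycleType := by
    by_contra h4
    have h2 : ∀ m ∈ r.cycleType, m ∣ 2 := by
      intro m hm
      have hd : m ∣ 4 := hlcm ▸ Multiset.dvd_lcm hm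
      have hm4 : m ≠ 4 := fun h => h4 (h ▸ hm)
      have hmle : m ≤ 4 := Nat.le_of_dvd (by norm_num) hd
      interval_cases m <;> omega
    have : r.cycleType.lcm ∣ 2 := Multiset.lcm_dvd.2 h2
    rw [hlcm] at this
    norm_num at this
  obtain ⟨s, hs⟩ := Multiset.exists_cons_of_mem h4
  have hs0 : s = 0 := by
    rw [hs, Multiset.sum_cons] at hsum
    by_contra hne
    obtain ⟨m, hm⟩ := Multiset.exists_mem_of_ne_zero hne
    have h1 := Multiset.le_sum_of_mem hm
    have h2 := Equiv.Perm.two_le_of_mem_cycleType (hs ▸ Multiset.mem_cons_of_mem hm : m ∈ r.cycleType)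
    omega
  rw [Equiv.Perm.sign_of_cycleType, hs, hs0] at hsgn
  revert hsgn
  decide

/-- The model `A₇` of `PropModelOne`. -/
theorem alt_one (e : X ≃* alternatingGroup (Fin 7)) (hCD : SylowCD X) (S : Sylow 2 X) (t a b : X) (n : ℕ)
    (hS : Nat.card (S : Subgroup X) = 2 ^ n) (hR : Refl S t a b)
    (hn : 3 ≤ n) :
    n = 3 ∧ Nat.card X = 2520 ∧ Nat.card (coreC t) = 3 ∧
      (coreC t ≤ Subgroup.centralizer ({a} : Set X) ∨ coreC t ≤ Subgroup.centralizer ({b} : Set X)) := by
  classical
  haveI : Fact (Nat.Prime 2) := ⟨Nat.prime_two⟩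
  let π : X →* S7 := (alternatingGroup (Fin 7)).subtype.comp e.toMonoidHom
  have hπ : Function.Injective π := Subtype.val_injective.comp e.injective
  have hsgn : ∀ x, Equiv.Perm.sign (π x) = 1 := fun x => Equiv.Perm.mem_alternatingGroup.1 (e x).2
  have hX : Nat.card X = 2520 := by
    rw [Nat.card_congr e.toEquiv, nat_card_alternatingGroup, Nat.card_eq_fintype_card, Fintype.card_fin]
    rfl
  have hn3 : n = 3 := by
    have h1 : 2 ^ n ∣ Nat.card X := hS ▸ Subgroup.card_subgroup_dvd_card _
    rw [hX] at h1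
    by_contra hne
    have h2 : 16 ∣ 2520 := dvd_trans (Nat.pow_dvd_pow 2 (show 4 ≤ n by omega)) h1
    norm_num at h2
  have ht2 : π t * π t = 1 := by rw [← map_mul, sq_eq hR.t_two, map_one]
  have ht1 : π t ≠ 1 := fun h => ne_one hR.t_two (hπ (by rw [h, map_one]))
  have ht4 := card_support_invol ht2 ht1 (hsgn t)
  have hfix : ((π t).supportᶜ : Finset (Fin 7)).card = 3 := by
    rw [Finset.card_compl, ht4, Fintype.card_fin]
  -- the three-cycle on the fixed points
  obtain ⟨p, q, w, hpq, hpw, hqw, hpqw⟩ := Finset.card_eq_three.1 hfix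
  have hmemfix : ∀ y : Fin 7, y = p ∨ y = q ∨ y = w → π t y = y := by
    intro y hy
    have : y ∈ ((π t).supportᶜ : Finset (Fin 7)) := by rw [hpqw]; simpa using hy
    rwa [Finset.mem_compl, Equiv.Perm.notMem_support] at this
  set k : S7 := Equiv.swap p q * Equiv.swap p w with hkdef
  have hk3 : k.IsThreeCycle := Equiv.Perm.isThreeCycle_swap_mul_swap_same hpq hpw hqw
  obtain ⟨x, hx⟩ : ∃ x : X, π x = k := by
    refine ⟨e.symm ⟨k, Equiv.Perm.mem_alternatingGroup.2 ?_⟩, ?_⟩
    · exact hk3.sign
    · show ((e (e.symm _) : alternatingGroup (Fin 7)) : S7) = k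
      rw [e.apply_symm_apply]
  have hct : π t * k = k * π t := by
    have h1 : ∀ y z : Fin 7, π t y = y → π t z = z → π t * Equiv.swap y z = Equiv.swap y z * π t := by
      intro y z hy hz
      rw [Equiv.mul_swap_eq_swap_mul, hy, hz]
    rw [hkdef, ← mul_assoc, h1 p q (hmemfix p (Or.inl rfl)) (hmemfix q (Or.inr (Or.inl rfl))),
      mul_assoc, h1 p w (hmemfix p (Or.inl rfl)) (hmemfix w (Or.inr (Or.inr rfl))), ← mul_assoc]
  have hxt : x * t = t * x := hπ (by rw [map_mul, map_mul, hx, hct])
  have hxo : orderOf x = 3 := by rw [← orderOf_injective π hπ, hx]; exact hk3.orderOf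
  have hxO : x ∈ coreC t := mem_coreC hCD hR.t_two hxt (by rw [hxo]; decide)
  have hxk1 : k ≠ 1 := hk3.isCycle.ne_one
  have hall : ∀ l ∈ coreC t, l = 1 ∨ l = x ∨ l = x * x := by
    intro l hl
    by_cases hl1 : l = 1
    · exact Or.inl hl1
    right
    have hlt := Subgroup.mem_centralizer_singleton_iff.1 (coreC_le t hl)
    have oddπ : ∀ y ∈ coreC t, Odd (orderOf (π y)) := fun y hy => by
      rw [orderOf_injective π hπ]; exact orderOf_odd_of_mem (coreC_odd t) hy
    rcases alt_pair ht2 ht2 ht4 ht4 rfl (oddπ x hxO) (oddπ l hl)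
      (by rw [← map_mul, ← map_mul, ← map_inv, ← map_mul]
          exact oddπ _ (mul_mem (mul_mem (mul_mem hxO hl) hxO) (inv_mem hl)))
      (hx ▸ hxk1) (fun h => hl1 (hπ (h.trans (map_one π).symm)))
      (by rw [hx, hct]) (by rw [← map_mul, ← map_mul, hlt]) with h | h
    · exact Or.inl (hπ h)
    · exact Or.inr (hπ (h.trans (map_mul π x x).symm))
  have hgen : coreC t = Subgroup.zpowers x := by
    refine le_antisymm (fun l hl => ?_) (Subgroup.zpowers_le.2 hxO)
    rcases hall l hl with rfl | rfl | rfl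
    exacts [one_mem _, Subgroup.mem_zpowers _, mul_mem (Subgroup.mem_zpowers _) (Subgroup.mem_zpowers _)]
  refine ⟨hn3, hX, by rw [hgen, Nat.card_zpowers, hxo], ?_⟩
  -- each reflection centralises or inverts
  have hx3 : x * x * x = 1 := by rw [← pow_three', ← hxo, pow_orderOf_eq_one]
  have hconj : ∀ c : X, c * t = t * c → c * x * c⁻¹ = x ∨ c * x * c⁻¹ = x⁻¹ := by
    intro c hc
    have hn := centralizer_le_normalizer_coreC t (Subgroup.mem_centralizer_singleton_iff.2 hc)
    rcases hall _ ((Subgroup.mem_normalizer_iff.1 hn x).1 hxO) with h | h | h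
    · exfalso
      have hx1 : x = 1 := conj_eq_one_iff.1 h
      rw [hx1, orderOf_one] at hxo
      omega
    · exact Or.inl h
    · exact Or.inr (h.trans (eq_inv_of_mul_eq_one_left hx3))
  have hcen : ∀ c : X, c * x * c⁻¹ = x → coreC t ≤ Subgroup.centralizer ({c} : Set X) := fun c hc => by
    rw [hgen, Subgroup.zpowers_le, Subgroup.mem_centralizer_singleton_iff]
    exact (mul_inv_eq_iff_eq_mul.1 hc).symm
  rcases hconj a (hR.central a hR.u_mem) with ha | ha
  · exact Or.inl (hcen a ha)
  rcases hconj b (hR.central b hR.v_mem) with hb | hb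
  · exact Or.inr (hcen b hb)
  exfalso
  have hrx : a * b * x = x * (a * b) := by
    have h1 : a * b * x * (a * b)⁻¹ = x := by
      calc a * b * x * (a * b)⁻¹ = a * (b * x * b⁻¹) * a⁻¹ := by group
        _ = (a * x * a⁻¹)⁻¹ := by rw [hb]; group
        _ = x := by rw [ha, inv_inv]
    exact mul_inv_eq_iff_eq_mul.1 h1
  have hr : a * b * (a * b) ≠ 1 :=
    mul_sq_ne_one hR.u_two hR.v_two hR.noncomm (ne_one hR.t_two) hR.u_ne.symm hR.v_ne.symm hR.t_gen
  -- the square of the rotation is `t`
  have hr4 : (a * b * (a * b)) * (a * b * (a * b)) = 1 := by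
    have hm : a * b ∈ (S : Subgroup X) := mul_mem hR.u_mem hR.v_mem
    rcases hCD.twoSubgroup S.2 with hcyc | ⟨m, -, ⟨f⟩⟩
    · exfalso
      haveI := hcyc
      have := (IsCyclic.commGroup (α := (S : Subgroup X))).mul_comm ⟨a, hR.u_mem⟩ ⟨b, hR.v_mem⟩
      have hab : a * b = b * a := congrArg Subtype.val this
      exact hr (by rw [(show Commute b a from hab.symm).mul_mul_mul_comm, sq_eq hR.u_two,
        sq_eq hR.v_two, one_mul])
    · have hm4 : m = 4 := by
        have h1 := Nat.card_congr f.toEquiv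
        rw [hS, hn3, DihedralGroup.nat_card] at h1
        omega
      subst hm4
      have key : ∀ d : DihedralGroup 4, d * d * (d * d) = 1 := by decide
      exact congrArg Subtype.val (f.injective (show
        f ((⟨a * b, hm⟩ * ⟨a * b, hm⟩) * (⟨a * b, hm⟩ * ⟨a * b, hm⟩) : (S : Subgroup X)) = f 1 by
          rw [map_mul, map_mul, map_one]; exact key _))
  have hsq : a * b * (a * b) = t := by
    have hT := hR.central
    have hm : a * b * (a * b) ∈ (S : Subgroup X) :=
      mul_mem (mul_mem hR.u_mem hR.v_mem) (mul_mem hR.u_mem hR.v_mem)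
    obtain ⟨m, -, ⟨f⟩⟩ : ∃ m, 2 ≤ m ∧ Nonempty ((S : Subgroup X) ≃* DihedralGroup m) := by
      rcases hCD.twoSubgroup S.2 with hcyc | hd
      · exfalso
        haveI := hcyc
        have := (IsCyclic.commGroup (α := (S : Subgroup X))).mul_comm ⟨a, hR.u_mem⟩ ⟨b, hR.v_mem⟩
        have hab : a * b = b * a := congrArg Subtype.val this
        exact hr (by rw [(show Commute b a from hab.symm).mul_mul_mul_comm, sq_eq hR.u_two,
          sq_eq hR.v_two, one_mul])
      · exact hd
    have hm4 : m = 4 := by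
      have h1 := Nat.card_congr f.toEquiv
      rw [hS, hn3, DihedralGroup.nat_card] at h1
      omega
    subst hm4
    have key : ∀ d z : DihedralGroup 4, z * z = 1 → z ≠ 1 → (∀ s, s * z = z * s) → d * d ≠ 1 →
        d * d = z := by decide
    have h1 := key (f ⟨a * b, mul_mem hR.u_mem hR.v_mem⟩) (f ⟨t, hR.t_mem⟩)
      (by rw [← map_mul, ← map_one f]; exact congrArg f (Subtype.ext (sq_eq hR.t_two)))
      (fun h => ne_one hR.t_two (congrArg Subtype.val (f.injective (h.trans (map_one f).symm))))
      (fun s => by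
        obtain ⟨s, rfl⟩ := f.surjective s
        rw [← map_mul, ← map_mul]
        exact congrArg f (Subtype.ext (hT s s.2)))
      (fun h => hr (by
        rw [← map_mul, ← map_one f] at h
        exact congrArg Subtype.val (f.injective h)))
    rw [← map_mul] at h1
    exact congrArg Subtype.val (f.injective h1)
  refine four_not_commute (r := π (a * b)) (k := k) ?_ ?_ (hsgn _) ?_ hk3.card_support ?_
  · rw [← map_mul, ← map_mul, hr4, map_one]
  · rw [← map_mul, hsq]; exact ht1
  · rw [← map_mul, hsq]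
    refine Finset.eq_of_subset_of_card_le ?_ (by rw [hk3.card_support, hfix])
    intro y hy
    rw [Finset.mem_compl, Equiv.Perm.notMem_support]
    by_contra hty
    exact Equiv.Perm.mem_support.1 hy (fix_moved ht2 ht4 (by rw [hk3.orderOf]; decide) hct hty)
  · rw [← hx, ← map_mul, ← map_mul, hrx]

end Cfsg.Agent.Lib.GorensteinWalter.ModelsC
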