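import Cfsg.Agent.Lib.GorensteinWalter.ModelsC

/-!
# Models of section C: the inverted part of `O(C(t))` is cyclic
-/

set_option autoImplicit false
set_option linter.unusedSectionVars false
set_option linter.style.haveILetI false

universe u

namespace Cfsg.Agent.Lib.GorensteinWalter

open Cfsg.Agent.Lib.Fusion.Dihedral ModelsC

/-- In a core-free group with known sections, fused at both four-groups, the elements of odd order of
`C(t)` inverted by `a` lie in a cyclic subgroup of `C(t)`. -/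
def PropModelCyclic : Prop :=
  ∀ (X : Type u) [Group X] [Finite X] (S : Sylow 2 X) (t a b : X) (n : ℕ), Cfsg.oddCore X = ⊥ →
    HasDihedralSylow X →
    (∀ (L : Subgroup X) (N : Subgroup L) [N.Normal],
      IsSimpleGroup (L ⧸ N) → ¬ IsMulCommutative (L ⧸ N) → IsKnownD (L ⧸ N)) →
    3 ≤ n → Nat.card (S : Subgroup X) = 2 ^ n → Refl S t a b →
    Subgroup.closure ({a, b} : Set X) = (S : Subgroup X) →
    FusedIn (fourOf t a) ⊤ → FusedIn (fourOf t b) ⊤ →
      ∃ w : X, w * t = t * w ∧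
        ∀ x : X, x * t = t * x → Odd (orderOf x) → a * x * a⁻¹ = x⁻¹ → x ∈ Subgroup.zpowers w

namespace ModelsC

variable {F : Type} [Field F] [Fintype F]

open Cfsg.Agent.Lib.GWConsumers70 in
/-- The odd part of a torus is cyclic. -/
theorem isCyclic_slOdd (h2 : (2 : F) ≠ 0) {g : GL (Fin 2) F}
    (htr : (g : Matrix (Fin 2) (Fin 2) F).trace = 0) : IsCyclic (slOdd h2 htr) := by
  obtain ⟨χ, hχ⟩ := exists_char h2 htr
  let ι : slOdd h2 htr →* slComm g := Subgroup.inclusion fun s hs => hs.1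
  exact isCyclic_of_injective_ringHom (χ.comp ι) (hχ.comp (Subgroup.inclusion_injective _))

/-- The inverted part in the model `PSL(2,q)`. -/
theorem psl_inverted {X : Type u} [Group X] [Finite X] (L : Subgroup X) [L.Normal]
    (e : L ≃* Matrix.ProjectiveSpecialLinearGroup (Fin 2) F) (hF : Odd (Fintype.card F))
    (hc : Subgroup.centralizer (L : Set X) = ⊥) (hD : HasDihedralSylow X) {t a : X}
    (ht : orderOf t = 2) (ha : orderOf a = 2) :
    ∃ w : X, w * t = t * w ∧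
      ∀ x : X, x * t = t * x → Odd (orderOf x) → a * x * a⁻¹ = x⁻¹ → x ∈ Subgroup.zpowers w := by
  have h2 : (2 : F) ≠ 0 := Ring.two_ne_zero (ringChar_ne_two hF)
  obtain ⟨g, hg⟩ := exists_induces L e hF hc hD ht
  -- the intersection embeds into the cyclic odd part of the torus
  have hlift : ∀ y : ↥(coreC t ⊓ L), ∃ s : slOdd (Ring.two_ne_zero (ringChar_ne_two hF)) hg.2,
      (QuotientGroup.mk (s : Matrix.SpecialLinearGroup (Fin 2) F) :
        Matrix.ProjectiveSpecialLinearGroup (Fin 2) F) = e ⟨y, y.2.2⟩ := fun y => by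
    obtain ⟨s, hs, hsc, hso⟩ := exists_lift_commute L e h2 hg.1 (l := ⟨y, y.2.2⟩)
      (Subgroup.mem_centralizer_singleton_iff.1 (coreC_le t y.2.1))
      (orderOf_odd_of_mem (coreC_odd t) y.2.1)
    exact ⟨⟨s, hsc, hso⟩, hs⟩
  choose σ hσ using hlift
  let f : ↥(coreC t ⊓ L) →* slOdd (Ring.two_ne_zero (ringChar_ne_two hF)) hg.2 :=
    MonoidHom.mk' σ fun y z => by
      refine Subtype.ext (Model.lift_unique h2 ?_ (σ (y * z)).2.2 (σ y * σ z).2.2)
      rw [hσ, Subgroup.coe_mul (slOdd _ hg.2), QuotientGroup.mk_mul, hσ, hσ, ← map_mul]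
      rfl
  have hf : Function.Injective f := fun y z hyz => by
    have h1 : e ⟨y, y.2.2⟩ = e ⟨z, z.2.2⟩ := by
      rw [← hσ, ← hσ, show σ y = σ z from hyz]
    have h3 := congrArg (fun m : L => (m : X)) (e.injective h1)
    exact Subtype.ext h3
  haveI := isCyclic_slOdd (Ring.two_ne_zero (ringChar_ne_two hF)) hg.2
  haveI : IsCyclic ↥(coreC t ⊓ L) := isCyclic_of_injective f hf
  obtain ⟨⟨w, hw⟩, hgen⟩ := IsCyclic.exists_generator (α := ↥(coreC t ⊓ L))
  refine ⟨w, Subgroup.mem_centralizer_singleton_iff.1 (coreC_le t hw.1), fun x hxt hxo hinv => ?_⟩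
  have hx2 : x * x ∈ L := by
    have h1 := commutator_mem' L e hF hc hD ha x
    have h3 : a * x⁻¹ * a⁻¹ = x := by
      rw [show a * x⁻¹ * a⁻¹ = (a * x * a⁻¹)⁻¹ by group, hinv, inv_inv]
    have h4 : x * x = x * a * x⁻¹ * a⁻¹ := by
      calc x * x = x * (a * x⁻¹ * a⁻¹) := by rw [h3]
        _ = x * a * x⁻¹ * a⁻¹ := by group
    exact h4 ▸ h1
  have hxL : x ∈ L := by
    obtain ⟨k, hk⟩ := hxo
    have : x = (x * x) ^ (k + 1) := by
      rw [← sq, ← pow_mul, show 2 * (k + 1) = orderOf x + 1 by omega, pow_succ, pow_orderOf_eq_one, one_mul]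
    rw [this]
    exact pow_mem hx2 _
  obtain ⟨i, hi⟩ := Subgroup.mem_zpowers_iff.1
    (hgen ⟨x, Subgroup.mem_inf.2 ⟨mem_coreC hD.sylowCD ht hxt hxo, hxL⟩⟩)
  exact Subgroup.mem_zpowers_iff.2 ⟨i, congrArg Subtype.val hi⟩

end ModelsC

open ModelsC in
/-- `PropModelCyclic`. -/
theorem propModelCyclic : PropModelCyclic.{u} := by
  intro X _ _ S t a b n hO hD hsec hn hS hR hcl hfa hfb
  haveI : Fact (Nat.Prime 2) := ⟨Nat.prime_two⟩
  have hCD := hD.sylowCD
  rcases PEmbRankOne.socle_cases hCD hO (not_isPGroup_of_fused hCD hfa) with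
    ⟨N, hN, hN4, -⟩ | ⟨L, hL, hs, hna, hd, hC⟩
  · exact absurd ((fused_le_four hN hN4 hCD hfa).trans (fused_le_four hN hN4 hCD hfb).symm) hR.noncomm
  · haveI := hL
    obtain ⟨-, hK⟩ := hyp_of_sections hsec hs hna hd
    rcases hK with ⟨F, iF, iFF, hF, -, ⟨e⟩⟩ | ⟨⟨e⟩⟩
    · exact psl_inverted L e hF hC hD hR.t_two hR.u_two
    · have htop := alt_top L e hC hD
      subst htop
      obtain ⟨-, -, h3, -⟩ := alt_one (Subgroup.topEquiv.symm.trans e) hCD S t a b n hS hR hn
      haveI : Fact (Nat.Prime 3) := ⟨Nat.prime_three⟩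
      haveI : IsCyclic ↥(coreC t) := isCyclic_of_prime_card h3
      obtain ⟨⟨w, hw⟩, hgen⟩ := IsCyclic.exists_generator (α := ↥(coreC t))
      refine ⟨w, Subgroup.mem_centralizer_singleton_iff.1 (coreC_le t hw), fun x hxt hxo _ => ?_⟩
      obtain ⟨i, hi⟩ := Subgroup.mem_zpowers_iff.1 (hgen ⟨x, mem_coreC hCD hR.t_two hxt hxo⟩)
      exact Subgroup.mem_zpowers_iff.2 ⟨i, congrArg Subtype.val hi⟩

end Cfsg.Agent.Lib.GorensteinWalter
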