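import Cfsg.Agent.Lib.GorensteinWalter.Basic
import Cfsg.Agent.Lib.GorensteinWalter.InterfaceG
import Cfsg.Agent.Lib.GorensteinWalter.Wiring

/-!
# Models of section C: facts about any group with cyclic or dihedral Sylow 2-subgroups
-/

set_option autoImplicit false
set_option linter.unusedSectionVars false
set_option linter.style.haveILetI false

namespace Cfsg.Agent.Lib.GorensteinWalter.ModelsC

open Cfsg.Agent.Lib.Fusion.Dihedral

universe u

variable {X : Type u} [Group X] [Finite X]

theorem sq_eq {t : X} (ht : orderOf t = 2) : t * t = 1 := by rw [← sq, ← ht, pow_orderOf_eq_one]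

theorem ne_one {t : X} (ht : orderOf t = 2) : t ≠ 1 := fun h => by
  rw [h, orderOf_one] at ht; omega

theorem inv_eq {t : X} (ht : orderOf t = 2) : t⁻¹ = t := inv_eq_of_mul_eq_one_right (sq_eq ht)

/-- The elements of odd order of `C(t)` lie in `O(C(t))`. -/
theorem mem_coreC (h : SylowCD X) {t x : X} (ht : orderOf t = 2) (hx : x * t = t * x)
    (ho : Odd (orderOf x)) : x ∈ coreC t := by
  set C := Subgroup.centralizer ({t} : Set X) with hC
  have hxC : x ∈ C := Subgroup.mem_centralizer_singleton_iff.2 hx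
  refine ⟨⟨x, hxC⟩, (h.subgroup C).odd_mem_oddCore ?_ (by rwa [Subgroup.orderOf_mk]), rfl⟩
  intro V hV n hn hnodd
  by_contra hne
  have hV' : IsFour (V.map C.subtype) := ⟨by
    rw [Subgroup.card_map_of_injective C.subtype_injective]; exact hV.1, by
    rintro _ ⟨a, ha, rfl⟩
    rw [← map_mul, hV.2 a ha, map_one]⟩
  have htV : t ∈ V.map C.subtype := h.mem_of_commute hV' (sq_eq ht) (by
    rintro _ ⟨a, -, rfl⟩
    exact Subgroup.mem_centralizer_singleton_iff.1 a.2)
  obtain ⟨a, ha, hat⟩ := htV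
  have ha1 : a ≠ 1 := fun e => ne_one ht (by rw [← hat, e, map_one])
  obtain ⟨b, hb, hb1, hba⟩ : ∃ b ∈ V, b ≠ 1 ∧ b ≠ a := by
    by_contra hno
    push Not at hno
    have hs : Function.Surjective (fun i : Bool => if i then (⟨a, ha⟩ : V) else 1) := fun y => by
      by_cases hy : (y : C) = 1
      · exact ⟨false, Subtype.ext hy.symm⟩
      · exact ⟨true, Subtype.ext (hno y y.2 hy).symm⟩
    have := Nat.card_le_card_of_surjective _ hs
    rw [hV.1, Nat.card_eq_fintype_card, Fintype.card_bool] at this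
    omega
  obtain ⟨g, -, -, hgab⟩ := exists_conj_of_odd hV hn hnodd hne ha ha1 hb hb1
  refine hba (hgab.symm.trans (Subtype.ext ?_))
  have hat' : (a : X) = t := hat
  show (g : X) * a * (g : X)⁻¹ = a
  rw [hat', Subgroup.mem_centralizer_singleton_iff.1 g.2, mul_inv_cancel_right]

/-- A normal odd subgroup containing all elements of odd order has index a power of two. -/
theorem exists_pow_card {K N : Subgroup X} (hNK : N ≤ K) (hn : K ≤ Subgroup.normalizer (N : Set X))
    (hall : ∀ x ∈ K, Odd (orderOf x) → x ∈ N) : ∃ j, Nat.card K = 2 ^ j * Nat.card N := by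
  haveI : Fact (Nat.Prime 2) := ⟨Nat.prime_two⟩
  haveI : (N.subgroupOf K).Normal := Subgroup.normal_subgroupOf_of_le_normalizer hn
  have hp : IsPGroup 2 (K ⧸ N.subgroupOf K) := by
    intro q
    obtain ⟨x, rfl⟩ := QuotientGroup.mk_surjective q
    obtain ⟨k, m, hm, hkm⟩ := Nat.exists_eq_two_pow_mul_odd (n := orderOf (x : X)) (orderOf_pos _).ne'
    refine ⟨k, ?_⟩
    rw [← QuotientGroup.mk_pow, QuotientGroup.eq_one_iff, Subgroup.mem_subgroupOf]
    refine hall _ (x ^ 2 ^ k).2 ?_
    rw [Subgroup.coe_pow, orderOf_pow' _ (by positivity), hkm, Nat.gcd_eq_right (dvd_mul_right _ _),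
      Nat.mul_div_cancel_left _ (by positivity)]
    exact hm
  obtain ⟨j, hj⟩ := IsPGroup.iff_card.1 hp
  refine ⟨j, ?_⟩
  rw [Subgroup.card_eq_card_quotient_mul_card_subgroup (N.subgroupOf K), hj,
    Nat.card_congr (Subgroup.subgroupOfEquivOfLe hNK).toEquiv]

/-- The odd part of a subgroup of `C(t)`. -/
theorem exists_pow_card_coreC (h : SylowCD X) {t : X} (ht : orderOf t = 2) {K : Subgroup X}
    (hK : K ≤ Subgroup.centralizer ({t} : Set X)) :
    ∃ j, Nat.card K = 2 ^ j * Nat.card ↥(coreC t ⊓ K) := by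
  refine exists_pow_card inf_le_right (fun x hx => ?_) fun x hx ho =>
    Subgroup.mem_inf.2 ⟨mem_coreC h ht (Subgroup.mem_centralizer_singleton_iff.1 (hK hx)) ho, hx⟩
  rw [Subgroup.mem_normalizer_iff]
  intro y
  have h1 := Subgroup.mem_normalizer_iff.1 (centralizer_le_normalizer_coreC t (hK hx)) y
  simp only [Subgroup.mem_inf]
  exact ⟨fun hy => ⟨h1.1 hy.1, mul_mem (mul_mem hx hy.2) (inv_mem hx)⟩, fun hy => ⟨h1.2 hy.1, by
    have := mul_mem (mul_mem (inv_mem hx) hy.2) hx
    simpa [mul_assoc] using this⟩⟩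

/-- A subgroup of odd order acted on by an involution, commutators falling into an inverted part. -/
theorem card_fixed_split {A O : Subgroup X} (hA : Odd (Nat.card A)) (hAO : A ≤ O) {u : X}
    (hu : u * u = 1) (hinv : ∀ a ∈ A, u * a * u⁻¹ = a⁻¹)
    (hc : ∀ x ∈ O, x * u * x⁻¹ * u⁻¹ ∈ A) :
    Nat.card O = Nat.card A * Nat.card ↥(O ⊓ Subgroup.centralizer ({u} : Set X)) := by
  classical
  have hui : u⁻¹ = u := inv_eq_of_mul_eq_one_right hu
  have half : ∀ c ∈ A, ∃ d ∈ A, d * d = c := by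
    intro c hc
    obtain ⟨k, hk⟩ := orderOf_odd_of_mem hA hc
    exact ⟨c ^ (k + 1), pow_mem hc _, by
      rw [← pow_add, show k + 1 + (k + 1) = orderOf c + 1 by omega, pow_succ, pow_orderOf_eq_one, one_mul]⟩
  have hfix : ∀ a ∈ A, a * u = u * a → a = 1 := by
    intro a ha hau
    have h1 : a * a = 1 := by
      rw [mul_eq_one_iff_eq_inv, ← hinv a ha, ← hau, mul_inv_cancel_right]
    exact orderOf_eq_one_iff.1 (Nat.eq_one_of_dvd_coprimes
      (Nat.coprime_two_left.2 (orderOf_odd_of_mem hA ha))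
      (orderOf_dvd_of_pow_eq_one (by rw [sq]; exact h1)) dvd_rfl)
  let f : A × ↥(O ⊓ Subgroup.centralizer ({u} : Set X)) → O := fun p =>
    ⟨(p.1 : X) * p.2, mul_mem (hAO p.1.2) p.2.2.1⟩
  have hf : Function.Bijective f := by
    constructor
    · rintro ⟨a, x⟩ ⟨a', x'⟩ e
      have e1 : (a : X) * x = a' * x' := congrArg Subtype.val e
      have hcu : ((a' : X)⁻¹ * a) * u = u * ((a' : X)⁻¹ * a) := by
        have : (a' : X)⁻¹ * a = (x' : X) * (x : X)⁻¹ := by
          calc (a' : X)⁻¹ * a = (a' : X)⁻¹ * ((a : X) * x) * (x : X)⁻¹ := by group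
            _ = _ := by rw [e1]; group
        rw [this]
        exact Subgroup.mem_centralizer_singleton_iff.1 (mul_mem x'.2.2 (inv_mem x.2.2))
      have e2 := inv_mul_eq_one.1 (hfix _ (mul_mem (inv_mem a'.2) a.2) hcu)
      exact Prod.ext (Subtype.ext e2.symm) (Subtype.ext (mul_left_cancel (e2 ▸ e1)))
    · rintro ⟨x, hx⟩
      obtain ⟨d, hd, hdd⟩ := half _ (hc x hx)
      refine ⟨(⟨d, hd⟩, ⟨d⁻¹ * x, Subgroup.mem_inf.2 ⟨mul_mem (inv_mem (hAO hd)) hx, ?_⟩⟩),
        Subtype.ext (mul_inv_cancel_left d x)⟩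
      rw [Subgroup.mem_centralizer_singleton_iff]
      have h1 : x * u = d * d * (u * x) := by rw [hdd]; group
      have h2 : d * u = u * d⁻¹ := by
        rw [← hinv d hd]
        simp only [hui, mul_assoc]
        rw [← mul_assoc u u, hu, one_mul]
      calc d⁻¹ * x * u = d * u * x := by rw [mul_assoc, h1]; group
        _ = u * (d⁻¹ * x) := by rw [h2, mul_assoc]
  rw [← Nat.card_eq_of_bijective f hf, Nat.card_prod]

/-- An element of odd order centralises a 2-element of order at least four whose conjugates under it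
commute with each other. -/
theorem commute_of_orbit (h : SylowCD X) {x r : X} (hx : Odd (orderOf x))
    (hr4 : r * r ≠ 1) (hr2 : ∃ k, r ^ 2 ^ k = 1)
    (hcomm : ∀ i j : ℕ, x ^ i * r * (x ^ i)⁻¹ * (x ^ j * r * (x ^ j)⁻¹) =
      x ^ j * r * (x ^ j)⁻¹ * (x ^ i * r * (x ^ i)⁻¹)) :
    x * r = r * x := by
  classical
  haveI : Fact (Nat.Prime 2) := ⟨Nat.prime_two⟩
  set s : Set X := Set.range fun i : ℕ => x ^ i * r * (x ^ i)⁻¹ with hs
  set P := Subgroup.closure s with hPdef
  have hcom : ∀ a ∈ s, ∀ b ∈ s, a * b = b * a := by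
    rintro _ ⟨i, rfl⟩ _ ⟨j, rfl⟩
    exact hcomm i j
  letI := Subgroup.closureCommGroupOfComm hcom
  have hPab : ∀ a b : X, a ∈ P → b ∈ P → a * b = b * a := fun a b ha hb =>
    congrArg Subtype.val (mul_comm (⟨a, ha⟩ : Subgroup.closure s) ⟨b, hb⟩)
  obtain ⟨k, hk⟩ := hr2
  have hPexp : ∀ y ∈ P, y ^ 2 ^ k = 1 := by
    intro y hy
    induction hy using Subgroup.closure_induction with
    | mem y hy =>
      obtain ⟨i, rfl⟩ := hy
      simp only [conj_pow, hk, mul_one, mul_inv_cancel]
    | one => exact one_pow _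
    | mul a b ha hb ea eb =>
      rw [(show Commute a b from hPab a b ha hb).mul_pow, ea, eb, one_mul]
    | inv a _ ea => rw [inv_pow, ea, inv_one]
  have hp : IsPGroup 2 P := fun y => ⟨k, Subtype.ext (hPexp y y.2)⟩
  have hrP : r ∈ P := Subgroup.subset_closure ⟨0, by simp⟩
  have hcyc : IsCyclic P := by
    rcases h.twoSubgroup hp with hc | ⟨n, hn, ⟨e⟩⟩
    · exact hc
    · exfalso
      have hab := congrArg e (Subtype.ext (hPab _ _ (e.symm (DihedralGroup.r 1)).2
        (e.symm (DihedralGroup.sr 0)).2) :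
        e.symm (DihedralGroup.r 1) * e.symm (DihedralGroup.sr 0) =
          e.symm (DihedralGroup.sr 0) * e.symm (DihedralGroup.r 1))
      rw [map_mul, map_mul, e.apply_symm_apply, e.apply_symm_apply, DihedralGroup.r_mul_sr,
        DihedralGroup.sr_mul_r] at hab
      have h2 : ((2 : ℕ) : ZMod n) = 0 := by
        have := DihedralGroup.sr.inj hab
        push_cast
        linear_combination -this
      have hn2 := Nat.le_of_dvd two_pos ((ZMod.natCast_eq_zero_iff 2 n).1 h2)
      have hn' : n = 2 := le_antisymm hn2 hn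
      subst hn'
      apply hr4
      have hsq : ∀ d : DihedralGroup 2, d * d = 1 := by decide
      exact congrArg Subtype.val (e.injective (show e ((⟨r, hrP⟩ : P) * ⟨r, hrP⟩) = e 1 by
        rw [map_mul, map_one, hsq]))
  have hxP : x ∈ Subgroup.normalizer (P : Set X) := by
    have hle : P.map (MulAut.conj x).toMonoidHom ≤ P := by
      rw [hPdef, MonoidHom.map_closure, Subgroup.closure_le]
      rintro _ ⟨_, ⟨i, rfl⟩, rfl⟩
      refine Subgroup.subset_closure ⟨i + 1, ?_⟩
      simp only [MulEquiv.coe_toMonoidHom, MulAut.conj_apply, pow_succ' x i]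
      group
    exact Subgroup.mem_normalizer_fintype fun n hn => hle ⟨n, hn, rfl⟩
  set α := P.normalizerMonoidHom ⟨x, hxP⟩ with hα
  have hαo : orderOf α ∣ orderOf x :=
    (orderOf_map_dvd P.normalizerMonoidHom _).trans (by rw [Subgroup.orderOf_mk])
  obtain ⟨j, hj⟩ := IsPGroup.iff_card.1 hp
  haveI := hcyc
  have hαc : orderOf α ∣ 2 ^ (j - 1) := by
    refine orderOf_dvd_natCard α |>.trans (dvd_of_eq ?_)
    rw [IsCyclic.card_mulAut, hj]
    rcases j with _ | j
    · simp
    · rw [Nat.totient_prime_pow Nat.prime_two (Nat.succ_pos j)]; simp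
  have h1 : α = 1 := orderOf_eq_one_iff.1 (Nat.eq_one_of_dvd_coprimes
    ((Nat.coprime_two_left.2 hx).pow_left _) hαc hαo)
  have h2 := congrArg Subtype.val (DFunLike.congr_fun h1 ⟨r, hrP⟩)
  have h3 : x * r * x⁻¹ = r := h2
  exact mul_inv_eq_iff_eq_mul.1 h3

/-- The sections of a subgroup of a group with known sections are known. -/
theorem hyp_of_sections
    (hsec : ∀ (L : Subgroup X) (N : Subgroup L) [N.Normal],
      IsSimpleGroup (L ⧸ N) → ¬ IsMulCommutative (L ⧸ N) → IsKnownD (L ⧸ N))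
    {L : Subgroup X} (hs : IsSimpleGroup L) (hna : ¬ IsMulCommutative L) (hd : HasDihedralSylow L) :
    Hyp L ∧ IsKnownD L := by
  refine ⟨⟨hs, hna, hd, fun H _ N _ hsN hnaN => ?_⟩, ?_⟩
  · haveI := hsN
    let e : H ≃* H.map L.subtype := H.equivMapOfInjective L.subtype L.subtype_injective
    haveI : (N.map e.toMonoidHom).Normal := Subgroup.Normal.map inferInstance _ e.surjective
    let q : (H ⧸ N) ≃* (H.map L.subtype ⧸ N.map e.toMonoidHom) := QuotientGroup.congr N _ e rfl
    haveI := q.symm.isSimpleGroup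
    exact (hsec _ (N.map e.toMonoidHom) inferInstance
      fun h => hnaN ⟨⟨fun a b => q.injective (by rw [map_mul, map_mul]; exact h.is_comm.comm _ _)⟩⟩).congr q.symm
  · haveI := hs
    let q : (L ⧸ (⊥ : Subgroup L)) ≃* L := QuotientGroup.quotientBot
    haveI := q.isSimpleGroup
    exact (hsec L ⊥ inferInstance
      fun h => hna ⟨⟨fun a b => q.symm.injective (by rw [map_mul, map_mul]; exact h.is_comm.comm _ _)⟩⟩).congr q

/-- Fused four-groups are moved transitively by an element outside every 2-group. -/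
theorem not_isPGroup_of_fused (h : SylowCD X) {V : Subgroup X} (hV : FusedIn V ⊤) : ¬ IsPGroup 2 X := by
  intro hp
  set P := Subgroup.normalizer (V : Set X)
  have hVP : V ≤ P := Subgroup.le_normalizer
  obtain ⟨z, -, hz2, hzc⟩ := exists_central_involution (hp.to_subgroup P)
    (fun e => hV.1.ne_bot (le_bot_iff.1 (e ▸ hVP)))
  have hzV := h.mem_four_of_central hV.1 hVP (sq_eq hz2) hzc
  obtain ⟨w, hw, hw1, hwz⟩ : ∃ w ∈ V, w ≠ 1 ∧ w ≠ z := by
    by_contra hno
    push Not at hno
    have hs : Function.Surjective (fun i : Bool => if i then (⟨z, hzV⟩ : V) else 1) := fun y => by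
      by_cases hy : (y : X) = 1
      · exact ⟨false, Subtype.ext hy.symm⟩
      · exact ⟨true, Subtype.ext (hno y y.2 hy).symm⟩
    have := Nat.card_le_card_of_surjective _ hs
    rw [hV.1.1, Nat.card_eq_fintype_card, Fintype.card_bool] at this
    omega
  obtain ⟨g, -, hg, hgz⟩ := hV.2.2 z hzV (ne_one hz2) w hw hw1
  exact hwz (by rw [← hgz, hzc g hg, mul_inv_cancel_right])

/-- If commutators with the involutions of a fused four-group fall into `L`, it lies in `L`. -/
theorem le_of_fused {V L : Subgroup X} (hV : FusedIn V ⊤)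
    (hc : ∀ (g : X) (w : X), w ∈ V → w ≠ 1 → g * w * g⁻¹ * w⁻¹ ∈ L) : V ≤ L := by
  have hd : ∀ a ∈ V, ∀ b ∈ V, a ≠ 1 → b ≠ 1 → a ≠ b → a * b ∈ L := by
    intro a ha b hb ha1 hb1 _
    obtain ⟨g, -, -, hg⟩ := hV.2.2 b hb hb1 a ha ha1
    have := hc g b hb hb1
    rwa [hg, inv_eq_of_mul_eq_one_right (hV.1.2 b hb)] at this
  intro w hw
  by_cases hw1 : w = 1
  · exact hw1 ▸ one_mem L
  obtain ⟨c, hc', hc1, hcw⟩ : ∃ c ∈ V, c ≠ 1 ∧ c ≠ w := by
    by_contra hno
    push Not at hno
    have hs : Function.Surjective (fun i : Bool => if i then (⟨w, hw⟩ : V) else 1) := fun y => by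
      by_cases hy : (y : X) = 1
      · exact ⟨false, Subtype.ext hy.symm⟩
      · exact ⟨true, Subtype.ext (hno y y.2 hy).symm⟩
    have := Nat.card_le_card_of_surjective _ hs
    rw [hV.1.1, Nat.card_eq_fintype_card, Fintype.card_bool] at this
    omega
  have hcw1 : c * w ≠ 1 := fun e => hcw (by
    rw [mul_eq_one_iff_eq_inv.1 e, inv_eq_of_mul_eq_one_right (hV.1.2 w hw)])
  have := hd c hc' (c * w) (mul_mem hc' hw) hc1 hcw1 (fun e => hw1 (mul_eq_left.1 e.symm))
  rwa [← mul_assoc, hV.1.2 c hc', one_mul] at this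

/-- The four-group of a commuting pair. -/
theorem mem_fourOf (t u : X) : t ∈ fourOf t u ∧ u ∈ fourOf t u :=
  ⟨Subgroup.subset_closure (Or.inl rfl), Subgroup.subset_closure (Or.inr rfl)⟩

/-- If `t ≠ u, v` lies in the 2-group `⟨u, v⟩` and the two four-groups differ, `uv` is not an involution. -/
theorem mul_sq_ne_one {t u v : X} (hu : orderOf u = 2) (hv : orderOf v = 2) (hne : fourOf t u ≠ fourOf t v)
    (ht1 : t ≠ 1) (htu : t ≠ u) (htv : t ≠ v) (ht : t ∈ Subgroup.closure ({u, v} : Set X)) :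
    u * v * (u * v) ≠ 1 := by
  intro h
  have hc : u * v = v * u := by
    calc u * v = (u * v)⁻¹ := (inv_eq_of_mul_eq_one_right h).symm
      _ = v * u := by rw [mul_inv_rev, inv_eq hu, inv_eq hv]
  let W : Subgroup X :=
    { carrier := {g | g = 1 ∨ g = u ∨ g = v ∨ g = u * v}
      one_mem' := Or.inl rfl
      mul_mem' := by
        have p1 : u * (u * v) = v := by rw [← mul_assoc, sq_eq hu, one_mul]
        have p2 : v * (u * v) = u := by rw [hc, ← mul_assoc, sq_eq hv, one_mul]
        have p3 : u * v * u = v := by rw [hc, mul_assoc, sq_eq hu, mul_one]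
        have p4 : u * v * v = u := by rw [mul_assoc, sq_eq hv, mul_one]
        rintro a b (rfl | rfl | rfl | rfl) (rfl | rfl | rfl | rfl) <;>
          simp only [Set.mem_ofPred_eq, one_mul, mul_one, sq_eq hu, sq_eq hv, p1, p2, p3, p4, ← hc, h] <;>
          tauto
      inv_mem' := by
        rintro a (rfl | rfl | rfl | rfl) <;>
          simp only [Set.mem_ofPred_eq, inv_one, inv_eq hu, inv_eq hv, inv_eq_of_mul_eq_one_right h] <;>
          tauto }
  have hle : Subgroup.closure ({u, v} : Set X) ≤ W := by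
    rw [Subgroup.closure_le]
    rintro y (rfl | rfl)
    exacts [Or.inr (Or.inl rfl), Or.inr (Or.inr (Or.inl rfl))]
  rcases hle ht with h1 | h1 | h1 | h1
  · exact ht1 h1
  · exact htu h1
  · exact htv h1
  · apply hne
    have hm := mem_fourOf t u
    have hm' := mem_fourOf t v
    refine le_antisymm ?_ ?_ <;> rw [Subgroup.closure_le]
    · rintro y (rfl | rfl)
      · exact hm'.1
      · have : y = t * v := by rw [h1, mul_assoc, sq_eq hv, mul_one]
        exact this ▸ mul_mem hm'.1 hm'.2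
    · rintro y (rfl | rfl)
      · exact hm.1
      · have : y = u * t := by rw [h1, ← mul_assoc, sq_eq hu, one_mul]
        exact this ▸ mul_mem hm.2 hm.1

end Cfsg.Agent.Lib.GorensteinWalter.ModelsC
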