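import Cfsg.Agent.Lib.GorensteinWalter.ModelsC.Torus
import Cfsg.Agent.Lib.GorensteinWalter.ModelPSL
import Cfsg.Agent.Lib.Linear.Order

/-!
# Models of section C: between `PSL(2,q)` and its automorphism group

Involutions act by trace zero matrices; commuting ones anticommute, so an involution inverts the
torus of every involution it commutes with, and products of two of them lie in that torus.
-/

set_option autoImplicit false
set_option linter.unusedSectionVars false
set_option linter.style.haveILetI false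

universe u

namespace Cfsg.Agent.Lib.GorensteinWalter.ModelsC

open Cfsg.Agent.Lib.Fusion.Dihedral Cfsg.Agent.Lib.GorensteinWalter.Model Cfsg.Agent.Lib.AutPSL
open Cfsg.Agent.Lib.GWConsumers70 Matrix
open scoped MatrixGroups

variable {F : Type} [Field F] [Fintype F]

local notation "SL2" => Matrix.SpecialLinearGroup (Fin 2) F
local notation "PSL2" => Matrix.ProjectiveSpecialLinearGroup (Fin 2) F
local notation "GL2" => GL (Fin 2) F
local notation "M2" => Matrix (Fin 2) (Fin 2) F

theorem ringChar_ne_two (hF : Odd (Fintype.card F)) : ringChar F ≠ 2 := fun h => by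
  have := FiniteField.even_card_of_char_two h
  rw [← Nat.not_even_iff_odd, Nat.even_iff] at hF
  exact hF this

variable {X : Type u} [Group X] [Finite X] (L : Subgroup X) [L.Normal] (e : L ≃* Matrix.ProjectiveSpecialLinearGroup (Fin 2) F)

/-- `g` is a trace zero matrix inducing the involution `w`. -/
def Induces (w : X) (g : GL2) : Prop := autHom L e w = conjAut g ∧ (g : M2).trace = 0

variable (hF : Odd (Fintype.card F)) (hc : Subgroup.centralizer (L : Set X) = ⊥) (hD : HasDihedralSylow X)

include e hF hc hD in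
theorem exists_induces {w : X} (hw : orderOf w = 2) : ∃ g : GL2, Induces L e w g := by
  have hodd := ringChar_ne_two hF
  obtain ⟨g, hg⟩ := exists_linear L e hodd hc hD (sq_eq hw)
  refine ⟨g, hg, ?_⟩
  have h1 : (conjAut (g * g) : MulAut PSL2) = 1 := by
    rw [map_mul, ← hg, ← map_mul, sq_eq hw, map_one]
  obtain ⟨c, hc'⟩ := exists_scalar_of_conjAut_eq_one (le_refl 2) h1
  refine tr_zero_of_sq (c := (c : F)) ?_ fun d hd => ?_
  · rw [← Units.val_mul, hc']
    simp [Matrix.smul_one_eq_diagonal, GeneralLinearGroup.coe_scalar, Matrix.scalar_apply]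
  · have h2 := conjAut_eq_one_of_center (mem_center_GL_of_scalar hd)
    rw [← hg, ← map_one (autHom L e)] at h2
    exact ne_one hw (autHom_injective L e hc h2)

include hc in
theorem eq_of_conjAut {w z : X} {g h : GL2} (hg : autHom L e w = conjAut g) (hh : autHom L e z = conjAut h)
    {κ : F} (hκ : (g : M2) = κ • (h : M2)) : w = z := by
  apply autHom_injective L e hc
  rw [hg, hh]
  have h1 : (g * h⁻¹ : GL2).val = κ • (1 : M2) := by
    rw [Units.val_mul, hκ, Matrix.smul_mul, Units.mul_inv]
  have := conjAut_eq_one_of_center (mem_center_GL_of_scalar h1)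
  rwa [map_mul, map_inv, mul_inv_eq_one] at this

include hF hc in
/-- Commuting distinct involutions are induced by anticommuting matrices. -/
theorem anticommute {w z : X} {g h : GL2} (hg : Induces L e w g) (hh : Induces L e z h)
    (hwz : w * z = z * w) (hne : w ≠ z) : (g : M2) * h = -((h : M2) * g) := by
  have h2 : (2 : F) ≠ 0 := Ring.two_ne_zero (ringChar_ne_two hF)
  have h1 : (conjAut (g * h * g⁻¹ * h⁻¹) : MulAut PSL2) = 1 := by
    rw [map_mul, map_mul, map_mul, map_inv, map_inv, ← hg.1, ← hh.1, ← map_inv, ← map_inv, ← map_mul,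
      ← map_mul, ← map_mul, hwz, mul_inv_cancel_right, mul_inv_cancel, map_one]
  obtain ⟨c, hc'⟩ := exists_scalar_of_conjAut_eq_one (le_refl 2) h1
  have hgh : (g : M2) * h = (c : F) • ((h : M2) * g) := by
    have e1 : g * h = GeneralLinearGroup.scalar (Fin 2) c * (h * g) := by rw [← hc']; group
    have := congrArg (fun m : GL2 => (m : M2)) e1
    simp only [Units.val_mul] at this
    rw [this]
    simp [GeneralLinearGroup.coe_scalar, Matrix.scalar_apply, ← Matrix.smul_one_eq_diagonal]
  have hsq := sq_eq_of_trace_zero hg.2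
  have hd0 : -(g : M2).det ≠ 0 := neg_ne_zero.2 (GeneralLinearGroup.det_ne_zero g)
  have hκ : (c : F) * c = 1 := by
    have e2 : ((c : F) * c) • ((h : M2) * ((g : M2) * g)) = ((g : M2) * g) * h := by
      rw [mul_assoc (g : M2), hgh, Matrix.mul_smul, ← mul_assoc (g : M2), hgh, Matrix.smul_mul, smul_smul,
        mul_assoc]
    rw [hsq, Matrix.mul_smul, Matrix.smul_mul, mul_one, one_mul, smul_comm] at e2
    have e3 := smul_right_injective M2 hd0 e2
    have e4 : ((c : F) * c) • (h : M2) = (1 : F) • (h : M2) := by rw [e3, one_smul]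
    exact smul_left_injective F h.ne_zero e4
  rcases mul_self_eq_one_iff.1 hκ with hκ1 | hκ1
  · rw [hκ1, one_smul] at hgh
    obtain ⟨κ, hκ'⟩ := prop_of_commute h2 hg.2 hh.2 h.ne_zero hgh
    exact absurd (eq_of_conjAut L e hc hg.1 hh.1 hκ') hne
  · rw [hgh, hκ1, neg_one_smul]

/-- Products of two matrices anticommuting with `g` commute with it. -/
theorem mul_commute {g a b : M2} (ha : a * g = -(g * a)) (hb : b * g = -(g * b)) :
    a * b * g = g * (a * b) := by
  rw [mul_assoc, hb, mul_neg, ← mul_assoc, ha, neg_mul, neg_neg, mul_assoc]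

include e hF hc hD in
/-- An element of odd order of `C(t)` centralises the product of two involutions of `C(t)`. -/
theorem commute_rotation {t u v x : X} (ht : orderOf t = 2) (hu : orderOf u = 2) (hv : orderOf v = 2)
    (hut : u * t = t * u) (hvt : v * t = t * v) (hu' : u ≠ t) (hv' : v ≠ t)
    (hr : u * v * (u * v) ≠ 1) (hr2 : ∃ k, (u * v) ^ 2 ^ k = 1)
    (hxt : x * t = t * x) (hxo : Odd (orderOf x)) : x * (u * v) = (u * v) * x := by
  have h2 : (2 : F) ≠ 0 := Ring.two_ne_zero (ringChar_ne_two hF)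
  obtain ⟨g, hg⟩ := exists_induces L e hF hc hD ht
  -- every conjugate of the rotation is induced by a matrix commuting with `g`
  have key : ∀ i : ℕ, ∃ m : GL2, autHom L e (x ^ i * (u * v) * (x ^ i)⁻¹) = conjAut m ∧
      (m : M2) * g = (g : M2) * m := by
    intro i
    have hxi : x ^ i * t = t * x ^ i := ((show Commute x t from hxt).pow_left i).eq
    have conjw : ∀ w : X, orderOf w = 2 → w * t = t * w → w ≠ t →
        ∃ a : GL2, autHom L e (x ^ i * w * (x ^ i)⁻¹) = conjAut a ∧ (a : M2) * g = -((g : M2) * a) := by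
      intro w hw hwt hwne
      have hwo : orderOf (x ^ i * w * (x ^ i)⁻¹) = 2 := by
        rw [← MulAut.conj_apply, MulEquiv.orderOf_eq (MulAut.conj (x ^ i)) w, hw]
      have hwt' : x ^ i * w * (x ^ i)⁻¹ * t = t * (x ^ i * w * (x ^ i)⁻¹) :=
        ((((show Commute (x ^ i) t from hxi)).mul_left hwt).mul_left
          (show Commute (x ^ i) t from hxi).inv_left).eq
      have hwne' : x ^ i * w * (x ^ i)⁻¹ ≠ t := fun h => hwne (by
        calc w = (x ^ i)⁻¹ * (x ^ i * w * (x ^ i)⁻¹) * x ^ i := by group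
          _ = t := by rw [h, mul_assoc, ← hxi, inv_mul_cancel_left])
      obtain ⟨a, ha⟩ := exists_induces L e hF hc hD hwo
      exact ⟨a, ha.1, anticommute L e hF hc ha hg hwt' hwne'⟩
    obtain ⟨a, ha, ha'⟩ := conjw u hu hut hu'
    obtain ⟨b, hb, hb'⟩ := conjw v hv hvt hv'
    refine ⟨a * b, ?_, by rw [Units.val_mul]; exact mul_commute ha' hb'⟩
    refine Eq.trans ?_ (map_mul conjAut a b).symm
    rw [← ha, ← hb, ← (autHom L e).map_mul]
    congr 1
    group
  refine commute_of_orbit hD.sylowCD hxo hr hr2 fun i j => autHom_injective L e hc ?_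
  obtain ⟨a, ha, ha'⟩ := key i
  obtain ⟨b, hb, hb'⟩ := key j
  rw [(autHom L e).map_mul (x ^ i * (u * v) * (x ^ i)⁻¹), (autHom L e).map_mul (x ^ j * (u * v) * (x ^ j)⁻¹),
    ha, hb, ← map_mul, ← map_mul]
  exact congrArg _ (Units.ext (commute_both h2 hg.2 g.ne_zero ha' hb'))

/-- Lifts of odd order commuting with the matrix of an involution. -/
theorem exists_lift_commute (h2 : (2 : F) ≠ 0) {t : X} {g : GL2} (hg : autHom L e t = conjAut g) {l : L}
    (hlt : (l : X) * t = t * l) (ho : Odd (orderOf (l : X))) :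
    ∃ s : SL2, (QuotientGroup.mk s : PSL2) = e l ∧ s ∈ slComm g ∧ Odd (orderOf s) := by
  have hol : Odd (orderOf (e l)) := by rwa [e.orderOf_eq, ← Subgroup.orderOf_coe]
  obtain ⟨s, hs, hso⟩ := exists_lift h2 hol
  refine ⟨s, hs, ?_, hso⟩
  have h1 : (conjAut g : MulAut PSL2) (e l) = e l := by
    rw [← hg, autHom_apply]
    refine congrArg e (Subtype.ext ?_)
    rw [MulAut.conjNormal_apply, ← hlt, mul_inv_cancel_right]
  rw [← hs, conjAut_mk] at h1
  have h3 := lift_unique h2 h1 (by rwa [MulEquiv.orderOf_eq]) hso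
  have h4 := congrArg (fun m : SL2 => (m : M2)) h3
  simp only [coe_conjSL] at h4
  rw [mem_slComm]
  calc (s : M2) * (g : M2) = (g : M2) * (s : M2) * ((g⁻¹ : GL2) : M2) * (g : M2) := by rw [h4]
    _ = (g : M2) * (s : M2) := by rw [mul_assoc, Units.inv_mul, mul_one]

include e hF hc hD in
/-- An involution inverts the odd part of the torus of one it commutes with. -/
theorem inverts {t w : X} (ht : orderOf t = 2) (hw : orderOf w = 2) (hwt : w * t = t * w) (hne : w ≠ t)
    {l : X} (hl : l ∈ L) (hlt : l * t = t * l) (ho : Odd (orderOf l)) : w * l * w⁻¹ = l⁻¹ := by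
  have h2 : (2 : F) ≠ 0 := Ring.two_ne_zero (ringChar_ne_two hF)
  obtain ⟨g, hg⟩ := exists_induces L e hF hc hD ht
  obtain ⟨h, hh⟩ := exists_induces L e hF hc hD hw
  obtain ⟨s, hs, hsc, -⟩ := exists_lift_commute L e h2 hg.1 (l := ⟨l, hl⟩) hlt ho
  have hanti := anticommute L e hF hc hh hg hwt hne
  have h5 : (conjAut h : MulAut PSL2) (QuotientGroup.mk s) = (QuotientGroup.mk s)⁻¹ := by
    rw [conjAut_mk, ← QuotientGroup.mk_inv]
    refine congrArg _ (Subtype.ext ?_)
    obtain ⟨c, d, hcd⟩ := eq_comb h2 hg.2 hsc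
    have h3 : (h : M2) * (s : M2) = ((s : M2).trace • (1 : M2) - (s : M2)) * (h : M2) := by
      rw [hcd, trace_add, trace_smul, trace_smul, hg.2, trace_one, Fintype.card_fin, smul_zero, add_zero,
        smul_eq_mul]
      simp only [sub_mul, mul_add, add_mul, Matrix.mul_smul, Matrix.smul_mul, one_mul, mul_one, hanti,
        smul_neg]
      push_cast
      module
    rw [coe_conjSL, sl_inv_eq, h3, mul_assoc, Units.mul_inv, mul_one]
  rw [hs, ← hh.1, autHom_apply, ← map_inv] at h5
  exact congrArg Subtype.val (e.injective h5)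

include e hF hc hD in
/-- The odd part of the torus. -/
theorem card_coreC_inf (hCD : SylowCD X) {t : X} (ht : orderOf t = 2) {g : GL2} (hg : Induces L e t g) :
    Nat.card ↥(coreC t ⊓ L) = Nat.card (slOdd (Ring.two_ne_zero (ringChar_ne_two hF)) hg.2) := by
  have h2 : (2 : F) ≠ 0 := Ring.two_ne_zero (ringChar_ne_two hF)
  have hlift : ∀ y : ↥(coreC t ⊓ L), ∃ s : SL2, (QuotientGroup.mk s : PSL2) = e ⟨y, y.2.2⟩ ∧
      s ∈ slComm g ∧ Odd (orderOf s) := fun y =>
    exists_lift_commute L e h2 hg.1 (Subgroup.mem_centralizer_singleton_iff.1 (coreC_le t y.2.1))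
      (orderOf_odd_of_mem (coreC_odd t) y.2.1)
  choose σ hσ using hlift
  refine Nat.card_eq_of_bijective
    (fun y => (⟨σ y, (hσ y).2⟩ : slOdd (Ring.two_ne_zero (ringChar_ne_two hF)) hg.2)) ⟨?_, ?_⟩
  · intro y z hyz
    have h1 : e ⟨y, y.2.2⟩ = e ⟨z, z.2.2⟩ := by
      rw [← (hσ y).1, ← (hσ z).1, show σ y = σ z from congrArg Subtype.val hyz]
    have h3 := congrArg (fun m : L => (m : X)) (e.injective h1)
    exact Subtype.ext h3
  · rintro ⟨s, hs⟩
    have ho : Odd (orderOf ((e.symm (QuotientGroup.mk s) : L) : X)) := by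
      rw [Subgroup.orderOf_coe, e.symm.orderOf_eq]
      exact Odd.of_dvd_nat hs.2 (orderOf_map_dvd (QuotientGroup.mk' _) s)
    have hfix : autHom L e t (e (e.symm (QuotientGroup.mk s))) = e (e.symm (QuotientGroup.mk s)) := by
      rw [e.apply_symm_apply, hg.1, conjAut_mk]
      refine congrArg _ (Subtype.ext ?_)
      rw [coe_conjSL, ← mem_slComm.1 hs.1, mul_assoc, Units.mul_inv, mul_one]
    refine ⟨⟨(e.symm (QuotientGroup.mk s) : L),
      Subgroup.mem_inf.2 ⟨mem_coreC hCD ht (commute_of_fixed L e hfix).symm ho, SetLike.coe_mem _⟩⟩, ?_⟩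
    refine Subtype.ext (lift_unique h2 ?_ (hσ _).2.2 hs.2)
    rw [(hσ _).1]
    show e (e.symm (QuotientGroup.mk s)) = _
    rw [e.apply_symm_apply]

include e hF hc hD in
/-- Involutions of `L` are those with square determinant. -/
theorem mem_iff_isSquare {w : X} {g : GL2} (hg : Induces L e w g) :
    w ∈ L ↔ IsSquare (g : M2).det := by
  constructor
  · intro hw
    obtain ⟨s, hs⟩ := QuotientGroup.mk_surjective (e ⟨w, hw⟩)
    have h1 : (conjAut (g * (Matrix.SpecialLinearGroup.toGL s)⁻¹) : MulAut PSL2) = 1 := by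
      rw [map_mul, map_inv, ← hg.1, conjAut_toGL, hs, mul_inv_eq_one]
      exact autHom_of_mem L e ⟨w, hw⟩
    obtain ⟨c, hc'⟩ := exists_scalar_of_conjAut_eq_one (le_refl 2) h1
    refine ⟨c, ?_⟩
    have h3 : g = GeneralLinearGroup.scalar (Fin 2) c * Matrix.SpecialLinearGroup.toGL s := by
      rw [← hc']; group
    have h4 := congrArg GeneralLinearGroup.det h3
    rw [map_mul, GeneralLinearGroup.det_scalar, Fintype.card_fin] at h4
    have h5 := congrArg (fun z : Fˣ => (z : F)) h4
    simpa [sq, pow_two] using h5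
  · rintro ⟨r, hr⟩
    have hr0 : r ≠ 0 := fun h => GeneralLinearGroup.det_ne_zero g (by rw [hr, h, mul_zero])
    obtain ⟨x, hx⟩ := exists_inner_of_det (d := g) (c := Units.mk0 r hr0) (Units.ext (by simpa using hr))
    have h1 : autHom L e w = autHom L e ((e.symm x : L) : X) := by
      rw [hg.1, hx, autHom_of_mem L e (e.symm x), MulEquiv.apply_symm_apply]
    rw [autHom_injective L e hc h1]
    exact (e.symm x).2

/-- The numerical facts about the tori `T` of an inner and `T'` of an outer involution. -/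
theorem exists_tori (hF : Odd (Fintype.card F)) {g : GL2} (htr : (g : M2).trace = 0)
    (hg : IsSquare (g : M2).det) :
    ∃ (a : ℕ) (ε : ℤ), (ε = 1 ∨ ε = -1) ∧ 4 ∣ a ∧ (Fintype.card F : ℤ) = (a : ℤ) + ε ∧
      Nat.card (slComm g) = a ∧
      ∀ g' : GL2, (g' : M2).trace = 0 → ¬ IsSquare (g' : M2).det →
        (Nat.card (slComm g') : ℤ) = (Fintype.card F : ℤ) + ε := by
  have hodd := ringChar_ne_two hF
  have h2 : (2 : F) ≠ 0 := Ring.two_ne_zero hodd
  have hq := Nat.odd_iff.1 hF
  have hd : ∀ k : GL2, (k : M2).det ≠ 0 := fun k => GeneralLinearGroup.det_ne_zero k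
  have hmul : ∀ a b : F, a ≠ 0 → b ≠ 0 → (IsSquare (a * b) ↔ (IsSquare a ↔ IsSquare b)) := by
    intro a b ha hb
    constructor
    · intro hab
      constructor <;> intro h
      · have := hab.div h
        rwa [mul_div_cancel_left₀ b ha] at this
      · have := hab.div h
        rwa [mul_div_cancel_right₀ a hb] at this
    · intro hiff
      by_cases ha' : IsSquare a
      · exact ha'.mul (hiff.1 ha')
      · have hb' : ¬ IsSquare b := fun h => ha' (hiff.2 h)
        rw [FiniteField.isSquare_iff hodd ha] at ha'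
        rw [FiniteField.isSquare_iff hodd hb] at hb'
        rw [FiniteField.isSquare_iff hodd (mul_ne_zero ha hb), mul_pow,
          (FiniteField.pow_dichotomy hodd ha).resolve_left ha',
          (FiniteField.pow_dichotomy hodd hb).resolve_left hb']
        ring
  have hneg : ∀ k : GL2, IsSquare (-(k : M2).det) ↔ (IsSquare (-1 : F) ↔ IsSquare (k : M2).det) :=
    fun k => by rw [← neg_one_mul]; exact hmul _ _ (by simp) (hd k)
  by_cases h1 : IsSquare (-1 : F)
  · have h4 := FiniteField.isSquare_neg_one_iff.1 h1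
    refine ⟨Fintype.card F - 1, 1, Or.inl rfl, by omega, by omega,
      (card_slComm h2 htr).1 ((hneg g).2 (iff_of_true h1 hg)), fun g' ht' hg' => ?_⟩
    rw [(card_slComm h2 ht').2 (fun h => hg' (((hneg g').1 h).1 h1))]
    push_cast; ring
  · have h4 : Fintype.card F % 4 = 3 := not_not.1 fun h => h1 (FiniteField.isSquare_neg_one_iff.2 h)
    refine ⟨Fintype.card F + 1, -1, Or.inr rfl, by omega, by omega,
      (card_slComm h2 htr).2 (fun h => h1 (((hneg g).1 h).2 hg)), fun g' ht' hg' => ?_⟩
    rw [(card_slComm h2 ht').1 ((hneg g').2 (iff_of_false h1 hg'))]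
    have : 1 ≤ Fintype.card F := Fintype.card_pos
    push_cast [Nat.cast_sub this]; ring

include e hF hc hD in
theorem commutator_mem' {w : X} (hw : orderOf w = 2) (k : X) : k * w * k⁻¹ * w⁻¹ ∈ L := by
  obtain ⟨g, hg⟩ := exists_induces L e hF hc hD hw
  exact Model.commutator_mem L e (ringChar_ne_two hF) hc hg.1 k

include e hF hc hD in
/-- Splitting off the torus. -/
theorem card_split {t w : X} (ht : orderOf t = 2) (hw : orderOf w = 2) (hwt : w * t = t * w)
    (hne : w ≠ t) : Nat.card (coreC t) = Nat.card ↥(coreC t ⊓ L) * Nat.card (coreFix t w) := by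
  refine card_fixed_split ((coreC_odd t).of_dvd_nat (Subgroup.card_dvd_of_le inf_le_left)) inf_le_left
    (sq_eq hw) (fun l hl => inverts L e hF hc hD ht hw hwt hne hl.2
      (Subgroup.mem_centralizer_singleton_iff.1 (coreC_le t hl.1)) (orderOf_odd_of_mem (coreC_odd t) hl.1))
    fun x hx => Subgroup.mem_inf.2 ⟨?_, commutator_mem' L e hF hc hD hw x⟩
  have hw' : w ∈ Subgroup.normalizer (coreC t : Set X) :=
    centralizer_le_normalizer_coreC t (Subgroup.mem_centralizer_singleton_iff.2 hwt)
  rw [mul_assoc, mul_assoc, ← mul_assoc w]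
  exact mul_mem hx ((Subgroup.mem_normalizer_iff.1 hw' _).1 (inv_mem hx))

include e hF hc hD in
/-- The model of `PropModelSplit`. -/
theorem psl_split {t u v : X} (ht : orderOf t = 2) (hu : orderOf u = 2) (hv : orderOf v = 2)
    (hut : u * t = t * u) (hvt : v * t = t * v) (hu' : u ≠ t) (hv' : v ≠ t)
    (hr : u * v * (u * v) ≠ 1) (hr2 : ∃ k, (u * v) ^ 2 ^ k = 1) (htL : t ∈ L) (hvL : v ∉ L) :
    (∀ x : X, x * t = t * x → Odd (orderOf x) → x * v = v * x → x * u = u * x) ∧
      ∃ T T' : ℕ, Nat.Coprime T T' ∧ 2 * T ≤ T' + 1 ∧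
        Nat.card (coreC t) = T * Nat.card (coreFix t u) ∧
        Nat.card (coreC v) = T' * Nat.card (coreFix v t) := by
  refine ⟨fun x hxt hxo hxv => ?_, ?_⟩
  · have h := commute_rotation L e hF hc hD ht hu hv hut hvt hu' hv' hr hr2 hxt hxo
    refine mul_right_cancel (b := v) ?_
    calc x * u * v = u * (v * x) := by rw [mul_assoc, h, mul_assoc]
      _ = u * x * v := by rw [← hxv, mul_assoc]
  have h2 : (2 : F) ≠ 0 := Ring.two_ne_zero (ringChar_ne_two hF)
  obtain ⟨g, hg⟩ := exists_induces L e hF hc hD ht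
  obtain ⟨g', hg'⟩ := exists_induces L e hF hc hD hv
  obtain ⟨a, ε, hε, ha4, hq, hca, hcb⟩ :=
    exists_tori hF hg.2 ((mem_iff_isSquare L e hF hc hD hg).1 htL)
  have hcb' := hcb g' hg'.2 (fun h => hvL ((mem_iff_isSquare L e hF hc hD hg').2 h))
  refine ⟨Nat.card ↥(coreC t ⊓ L), Nat.card ↥(coreC v ⊓ L), ?_, ?_,
    card_split L e hF hc hD ht hu hut hu',
    card_split L e hF hc hD hv ht hvt.symm (Ne.symm hv')⟩
  all_goals rw [card_coreC_inf L e hF hc hD hD.sylowCD ht hg, card_coreC_inf L e hF hc hD hD.sylowCD hv hg']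
  all_goals
    set T := Nat.card (slOdd (Ring.two_ne_zero (ringChar_ne_two hF)) hg.2) with hT
    set T' := Nat.card (slOdd (Ring.two_ne_zero (ringChar_ne_two hF)) hg'.2) with hT'
    obtain ⟨k, hk⟩ := exists_pow_slOdd h2 hg.2
    obtain ⟨k', hk'⟩ := exists_pow_slOdd h2 hg'.2
    rw [hca, ← hT] at hk
    rw [← hT'] at hk'
    set b := Nat.card (slComm g') with hb
    have hTodd : Odd T := hT ▸ odd_card_slOdd h2 hg.2
    have hT'odd : Odd T' := hT' ▸ odd_card_slOdd h2 hg'.2
    have hab : b + 2 = a ∨ b = a + 2 := by omega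
  · apply Nat.coprime_of_dvd'
    intro p hp hpT hpT'
    have hpa : p ∣ a := hk ▸ hpT.mul_left _
    have hpb : p ∣ b := hk' ▸ hpT'.mul_left _
    have hp2 : p ∣ 2 := by
      rcases hab with h | h
      · exact (Nat.dvd_add_right hpb).1 (h ▸ hpa)
      · exact (Nat.dvd_add_right hpa).1 (h ▸ hpb)
    have hpe : p = 2 := (Nat.prime_dvd_prime_iff_eq hp Nat.prime_two).1 hp2
    subst hpe
    exact absurd hpT hTodd.not_two_dvd_nat
  · have hk1 : k' = 1 := by
      rcases k' with _ | _ | k'
      · simp only [pow_zero, one_mul] at hk'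
        have := Nat.odd_iff.1 hT'odd
        omega
      · rfl
      · exfalso
        have : 4 ∣ b := hk' ▸ Dvd.dvd.mul_right ⟨2 ^ k', by ring⟩ _
        omega
    subst hk1
    have hk2 : 2 ≤ k := by
      by_contra hk2
      interval_cases k <;> (have := Nat.odd_iff.1 hTodd; simp at hk; omega)
    have : 4 * T ≤ a := hk ▸ Nat.mul_le_mul_right T
      (calc 4 = 2 ^ 2 := rfl
        _ ≤ 2 ^ k := Nat.pow_le_pow_right two_pos hk2)
    simp only [pow_one] at hk'
    omega

end Cfsg.Agent.Lib.GorensteinWalter.ModelsC
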