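import Cfsg.Agent.Lib.GorensteinWalter.ModelsC.PSL

/-!
# Models of section C: both four-groups fused, the case `PSL(2,q)`

Every involution is then conjugate to `t` under the socle `L`, which contains a Sylow 2-subgroup; this
gives the order of the whole group from the centralizer of `t`.
-/

set_option autoImplicit false
set_option linter.unusedSectionVars false
set_option linter.style.haveILetI false

universe u

namespace Cfsg.Agent.Lib.GorensteinWalter.ModelsC

open Cfsg.Agent.Lib.Fusion.Dihedral Cfsg.Agent.Lib.GWConsumers70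

variable {F : Type} [Field F] [Fintype F] {X : Type u} [Group X] [Finite X]

theorem le_of_two_pow_dvd {i j o : ℕ} (ho : Odd o) (h : 2 ^ i ∣ 2 ^ j * o) : i ≤ j :=
  Nat.pow_dvd_pow_iff_le_right (by norm_num) |>.1
    ((Nat.Coprime.pow_left i (Nat.coprime_two_left.2 ho)).dvd_of_dvd_mul_right h)

/-- The model of `PropModelOne`, first case. -/
theorem psl_one (L : Subgroup X) [L.Normal] (e : L ≃* Matrix.ProjectiveSpecialLinearGroup (Fin 2) F)
    (hF : Odd (Fintype.card F)) (hc : Subgroup.centralizer (L : Set X) = ⊥) (hD : HasDihedralSylow X)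
    (hL : Hyp L) (S : Sylow 2 X) (t a b : X) (n : ℕ) (hS : Nat.card (S : Subgroup X) = 2 ^ n)
    (hR : Refl S t a b) (hSL : (S : Subgroup X) ≤ L) :
    (∀ x : X, x * t = t * x → Odd (orderOf x) → x * (a * b) = (a * b) * x) ∧
      ∃ (T q : ℕ) (ε : ℤ), (ε = 1 ∨ ε = -1) ∧ IsPrimePow q ∧ Nat.Coprime q T ∧
        Nat.card (coreC t) = T * Nat.card (coreFix t a) ∧
        (q : ℤ) = 2 ^ n * (T : ℤ) + ε ∧
        2 * (Nat.card X : ℤ) = (q : ℤ) * ((q : ℤ) + ε) * Nat.card (Subgroup.centralizer ({t} : Set X)) := by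
  haveI : Fact (Nat.Prime 2) := ⟨Nat.prime_two⟩
  have hat := hR.central a hR.u_mem
  have hbt := hR.central b hR.v_mem
  have hr : a * b * (a * b) ≠ 1 :=
    mul_sq_ne_one hR.u_two hR.v_two hR.noncomm (ne_one hR.t_two) hR.u_ne.symm hR.v_ne.symm hR.t_gen
  obtain ⟨k₀, hk₀⟩ := S.2 ⟨a * b, mul_mem hR.u_mem hR.v_mem⟩
  refine ⟨fun x hxt hxo => commute_rotation L e hF hc hD hR.t_two hR.u_two hR.v_two hat hbt hR.u_ne
    hR.v_ne hr ⟨k₀, congrArg Subtype.val hk₀⟩ hxt hxo, ?_⟩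
  have h2 : (2 : F) ≠ 0 := Ring.two_ne_zero (ringChar_ne_two hF)
  obtain ⟨g, hg⟩ := exists_induces L e hF hc hD hR.t_two
  have htL : t ∈ L := hSL hR.t_mem
  obtain ⟨c, ε, hε, hc4, hq, hcc, -⟩ := exists_tori hF hg.2 ((mem_iff_isSquare L e hF hc hD hg).1 htL)
  set T := Nat.card ↥(coreC t ⊓ L) with hT
  have hTodd : Odd T := (coreC_odd t).of_dvd_nat (Subgroup.card_dvd_of_le inf_le_left)
  obtain ⟨k, hk⟩ := exists_pow_slOdd h2 hg.2
  rw [hcc, ← card_coreC_inf L e hF hc hD hD.sylowCD hR.t_two hg, ← hT] at hk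
  set q := Fintype.card F with hqdef
  -- the Sylow 2-subgroup lies in `L`
  have hnd : ¬ 2 ^ (n + 1) ∣ Nat.card X := by
    intro h
    have h1 := S.card_eq_multiplicity
    rw [hS] at h1
    have h2 := (Nat.Prime.pow_dvd_iff_le_factorization Nat.prime_two Nat.card_pos.ne').1 h
    have h3 := Nat.pow_right_injective (le_refl 2) h1
    omega
  have hSd : 2 ^ n ∣ Nat.card L := hS ▸ Subgroup.card_dvd_of_le hSL
  obtain ⟨O, hO⟩ := hSd
  have hOodd : Odd O := by
    rw [← Nat.not_even_iff_odd, even_iff_two_dvd]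
    rintro ⟨O', rfl⟩
    exact hnd (dvd_trans ⟨O', by rw [hO]; ring⟩ (Subgroup.card_subgroup_dvd_card L))
  -- the order of `L`
  have hPSL : 2 * (Nat.card L : ℤ) = (q : ℤ) * (((q : ℤ) - 1) * ((q : ℤ) + 1)) := by
    have h1 := Linear.two_mul_card_PSL_two_of_odd (F := F) hF
    rw [← Nat.card_congr e.toEquiv, ← hqdef] at h1
    have : 1 ≤ q := Fintype.card_pos
    zify [this] at h1
    linear_combination h1
  have hfac : ((q : ℤ) - 1) * ((q : ℤ) + 1) = (c : ℤ) * ((q : ℤ) + ε) := by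
    rcases hε with rfl | rfl <;> rw [hq] <;> ring
  obtain ⟨O₂, hO₂, hO₂odd⟩ : ∃ O₂ : ℕ, ((q : ℤ) + ε) = 2 * O₂ ∧ Odd O₂ := by
    obtain ⟨d, hd⟩ := hc4
    have hq1 : 2 ≤ q := Fintype.one_lt_card
    rcases hε with rfl | rfl
    · exact ⟨2 * d + 1, by rw [hq, hd]; push_cast; ring, odd_two_mul_add_one d⟩
    · exact ⟨2 * d - 1, by rw [hq, hd]; omega, ⟨d - 1, by omega⟩⟩
  have hkn : k = n := by
    have h1 : 2 ^ n * O = 2 ^ k * (q * (T * O₂)) := by
      have h3 : (2 : ℤ) * ((2 ^ n * O : ℕ) : ℤ) = 2 * ((2 ^ k * (q * (T * O₂)) : ℕ) : ℤ) := by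
        rw [← hO, hPSL, hfac, hO₂, hk]; push_cast; ring
      exact_mod_cast mul_left_cancel₀ two_ne_zero h3
    have ho : Odd (q * (T * O₂)) := hF.mul (hTodd.mul hO₂odd)
    exact le_antisymm (le_of_two_pow_dvd hOodd (h1 ▸ dvd_mul_right _ _))
      (le_of_two_pow_dvd ho (h1 ▸ dvd_mul_right _ _))
  subst hkn
  -- the centralizer
  set C := Subgroup.centralizer ({t} : Set X) with hC
  have hSC : (S : Subgroup X) ≤ C := fun s hs => Subgroup.mem_centralizer_singleton_iff.2 (hR.central s hs)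
  have hK : Nat.card ↥(C ⊓ L) = c := by
    obtain ⟨j, hj⟩ := exists_pow_card_coreC hD.sylowCD hR.t_two (K := C ⊓ L) inf_le_left
    have he : coreC t ⊓ (C ⊓ L) = coreC t ⊓ L := by
      rw [← inf_assoc, inf_eq_left.2 (coreC_le t)]
    rw [he, ← hT] at hj
    have hjn : j = k := by
      refine le_antisymm (le_of_two_pow_dvd hOodd ?_)
        (le_of_two_pow_dvd hTodd (hj ▸ hS ▸ Subgroup.card_dvd_of_le (le_inf hSC hSL)))
      rw [← hO]
      exact dvd_trans ⟨T, hj⟩ (Subgroup.card_dvd_of_le inf_le_right)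
    rw [hj, hjn, hk]
  have hsup : C ⊔ L = ⊤ := by
    rw [eq_top_iff]
    intro x _
    have hxt : x * t * x⁻¹ ∈ L := (inferInstance : L.Normal).conj_mem t htL x
    obtain ⟨l, hl⟩ := isConj_iff.1 (hL.isConj (a := ⟨t, htL⟩) (b := ⟨x * t * x⁻¹, hxt⟩)
      (by rw [Subgroup.orderOf_mk]; exact hR.t_two)
      (by rw [Subgroup.orderOf_mk, ← MulAut.conj_apply, MulEquiv.orderOf_eq (MulAut.conj x) t]
          exact hR.t_two))
    have hl' : (l : X) * t * (l : X)⁻¹ = x * t * x⁻¹ := congrArg Subtype.val hl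
    have hc' : (l : X)⁻¹ * x ∈ C := by
      rw [hC, Subgroup.mem_centralizer_singleton_iff]
      calc (l : X)⁻¹ * x * t = (l : X)⁻¹ * (x * t * x⁻¹) * x := by group
        _ = t * ((l : X)⁻¹ * x) := by rw [← hl']; group
    have := mul_mem (Subgroup.mem_sup_right l.2 : (l : X) ∈ C ⊔ L) (Subgroup.mem_sup_left hc' : _ ∈ C ⊔ L)
    rwa [mul_inv_cancel_left] at this
  have hcount : Nat.card X * c = Nat.card L * Nat.card C := by
    have h1 : L.index = (C ⊓ L).relIndex C := by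
      rw [Subgroup.inf_relIndex_left, ← Subgroup.relIndex_sup_right, hsup, Subgroup.relIndex_top_right]
    have h2' : Nat.card C = Nat.card ↥(C ⊓ L) * (C ⊓ L).relIndex C := by
      rw [← Subgroup.card_mul_index ((C ⊓ L).subgroupOf C),
        Nat.card_congr (Subgroup.subgroupOfEquivOfLe inf_le_left).toEquiv]
      rfl
    rw [← Subgroup.card_mul_index L, h2', ← h1, hK]
    ring
  refine ⟨T, q, ε, hε, ?_, ?_, ?_, ?_, ?_⟩
  · obtain ⟨p, hp⟩ := CharP.exists F
    obtain ⟨m, hp', hm⟩ := FiniteField.card F p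
    exact ⟨p, m, hp'.prime, m.pos, hm.symm⟩
  · apply Nat.coprime_of_dvd'
    intro p hp hpq hpT
    have h1 : (p : ℤ) ∣ (c : ℤ) := Int.natCast_dvd_natCast.2 (hk ▸ hpT.mul_left _)
    have h3 : (p : ℤ) ∣ ε := by
      have h4 : (p : ℤ) ∣ (c : ℤ) + ε := hq ▸ Int.natCast_dvd_natCast.2 hpq
      exact (dvd_add_right h1).1 h4
    have h5 : p ∣ 1 := by
      have := Int.natAbs_dvd_natAbs.2 h3
      rcases hε with rfl | rfl <;> simpa using this
    exact h5
  · exact card_split L e hF hc hD hR.t_two hR.u_two hat hR.u_ne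
  · rw [hq, hk]; push_cast; ring
  · have hc0 : (c : ℤ) ≠ 0 := by
      have : c ≠ 0 := by rw [← hK]; exact Nat.card_pos.ne'
      exact_mod_cast this
    have hcount' : (Nat.card X : ℤ) * c = (Nat.card L : ℤ) * Nat.card C := by exact_mod_cast hcount
    refine mul_right_cancel₀ hc0 ?_
    calc 2 * (Nat.card X : ℤ) * c = (2 * (Nat.card L : ℤ)) * Nat.card C := by
          rw [mul_assoc, hcount']; ring
      _ = _ := by rw [hPSL, hfac]; ring

end Cfsg.Agent.Lib.GorensteinWalter.ModelsC
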