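import Cfsg.Agent.Lib.GWConsumers70.Torus
import Cfsg.Agent.Lib.GorensteinWalter.ModelsC.Abstract

/-!
# Models of section C: the tori of `SL(2, q)`

For a trace zero `g` the elements of `SL(2,q)` commuting with `g` form an abelian group of order
`q - 1` or `q + 1`, according to `-det g` being a square or not.
-/

set_option autoImplicit false
set_option linter.unusedSectionVars false
set_option linter.style.haveILetI false

namespace Cfsg.Agent.Lib.GorensteinWalter.ModelsC

open Cfsg.Agent.Lib.GorensteinWalter.Model Cfsg.Agent.Lib.GWConsumers70 Matrix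
open scoped MatrixGroups

variable {F : Type} [Field F] [Fintype F]

local notation "SL2" => Matrix.SpecialLinearGroup (Fin 2) F
local notation "GL2" => GL (Fin 2) F
local notation "M2" => Matrix (Fin 2) (Fin 2) F

theorem commute_slComm (h2 : (2 : F) ≠ 0) {g : GL2} (htr : (g : M2).trace = 0) {s t : SL2}
    (hs : s ∈ slComm g) (ht : t ∈ slComm g) : s * t = t * s :=
  Subtype.ext (commute_both h2 htr g.ne_zero (mem_slComm.1 hs) (mem_slComm.1 ht))

/-- The exact order of the commutant of a trace zero matrix. -/
theorem card_slComm (h2 : (2 : F) ≠ 0) {g : GL2} (htr : (g : M2).trace = 0) :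
    (IsSquare (-(g : M2).det) → Nat.card (slComm g) = Fintype.card F - 1) ∧
      (¬ IsSquare (-(g : M2).det) → Nat.card (slComm g) = Fintype.card F + 1) := by
  classical
  set D := (g : M2).det with hD
  have hD0 : D ≠ 0 := by rw [hD, ← GeneralLinearGroup.val_det_apply]; exact Units.ne_zero _
  choose U V hUV using fun s : slComm g => eq_comb h2 htr s.2
  have hdet : ∀ s, U s ^ 2 + D * V s ^ 2 = 1 := fun s => by
    rw [hD, ← det_comb htr, ← hUV]; exact (s : SL2).2
  let f : slComm g → Option F := fun s => if 1 + U s = 0 then none else some (V s / (1 + U s))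
  have hne : ∀ s, 1 + U s ≠ 0 →
      (1 + D * (V s / (1 + U s)) ^ 2) * (1 + U s) = 2 := by
    intro s hs
    field_simp
    linear_combination hdet s
  have hf : Function.Injective f := by
    intro s s' e
    suffices h : U s = U s' ∧ V s = V s' by
      apply Subtype.ext
      apply Subtype.ext
      rw [hUV, hUV, h.1, h.2]
    by_cases hs : 1 + U s = 0 <;> by_cases hs' : 1 + U s' = 0
    · have h0 : ∀ x, 1 + U x = 0 → V x = 0 := by
        intro x hx
        have h1 : D * V x ^ 2 = 0 := by linear_combination hdet x + (1 - U x) * hx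
        exact pow_eq_zero_iff two_ne_zero |>.1 ((mul_eq_zero.1 h1).resolve_left hD0)
      exact ⟨by linear_combination hs - hs', by rw [h0 s hs, h0 s' hs']⟩
    · simp [f, hs, hs'] at e
    · simp [f, hs, hs'] at e
    · simp only [f, if_neg hs, if_neg hs', Option.some.injEq] at e
      have h1 := hne s hs
      have h1' := hne s' hs'
      rw [e] at h1
      have h3 : 1 + D * (V s' / (1 + U s')) ^ 2 ≠ 0 := fun h0 => h2 (by rw [← h1', h0, zero_mul])
      have hU : U s = U s' := by
        have := mul_left_cancel₀ h3 (h1.trans h1'.symm)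
        linear_combination this
      refine ⟨hU, ?_⟩
      rw [hU, div_left_inj' hs'] at e
      exact e
  have hle : Nat.card (slComm g) ≤ Fintype.card F + 1 := by
    have := Nat.card_le_card_of_injective f hf
    rwa [Nat.card_eq_fintype_card (α := Option F), Fintype.card_option] at this
  refine ⟨fun hsq => ?_, fun hns => le_antisymm hle ((card_slComm_le h2 htr).2 hns)⟩
  obtain ⟨r, hr⟩ := hsq
  have hr0 : r ≠ 0 := fun h0 => hD0 (by rw [h0, mul_zero, neg_eq_zero] at hr; exact hr)
  refine le_antisymm ?_ (card_slComm_le h2 htr).1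
  have hav : ∀ s, f s ≠ some r⁻¹ ∧ f s ≠ some (-r⁻¹) := by
    intro s
    by_cases hs : 1 + U s = 0
    · simp [f, hs]
    · have key : ∀ c : F, c ^ 2 = (r⁻¹) ^ 2 → f s ≠ some c := by
        intro c hc e
        simp only [f, if_neg hs, Option.some.injEq] at e
        have h1 := hne s hs
        rw [e, hc, show D = -(r * r) by rw [← hr, neg_neg]] at h1
        field_simp at h1
        simp at h1
        exact h2 h1.symm
      exact ⟨key _ rfl, key _ (neg_sq _)⟩
  let f' : slComm g → {o : Option F // o ∉ ({some r⁻¹, some (-r⁻¹)} : Finset (Option F))} := fun s =>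
    ⟨f s, by simp [(hav s).1, (hav s).2]⟩
  have h := Nat.card_le_card_of_injective f' (fun a b e => hf (congrArg Subtype.val e))
  have hne' : (some r⁻¹ : Option F) ≠ some (-r⁻¹) := fun e => by
    have e' : r⁻¹ = -r⁻¹ := Option.some.inj e
    exact inv_ne_zero hr0 ((mul_eq_zero.1 (show (2 : F) * r⁻¹ = 0 by linear_combination e')).resolve_left h2)
  rw [Nat.card_eq_fintype_card (α := {o : Option F // _}), Fintype.card_subtype_compl,
    Fintype.card_option, Fintype.card_coe, Finset.card_pair hne'] at h
  omega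

/-- The elements of odd order commuting with `g`. -/
def slOdd (h2 : (2 : F) ≠ 0) {g : GL2} (htr : (g : M2).trace = 0) : Subgroup SL2 where
  carrier := {s | s ∈ slComm g ∧ Odd (orderOf s)}
  one_mem' := ⟨one_mem _, by simp⟩
  mul_mem' := fun {a b} ha hb => ⟨mul_mem ha.1 hb.1,
    (ha.2.mul hb.2).of_dvd_nat
      (show Commute a b from commute_slComm h2 htr ha.1 hb.1).orderOf_mul_dvd_mul_orderOf⟩
  inv_mem' := fun {a} ha => ⟨inv_mem ha.1, by rw [orderOf_inv]; exact ha.2⟩

theorem mem_slOdd (h2 : (2 : F) ≠ 0) {g : GL2} (htr : (g : M2).trace = 0) {s : SL2} :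
    s ∈ slOdd h2 htr ↔ s ∈ slComm g ∧ Odd (orderOf s) := Iff.rfl

theorem odd_card_slOdd (h2 : (2 : F) ≠ 0) {g : GL2} (htr : (g : M2).trace = 0) :
    Odd (Nat.card (slOdd h2 htr)) := by
  rw [← Nat.not_even_iff_odd, even_iff_two_dvd]
  intro h
  haveI : Fact (Nat.Prime 2) := ⟨Nat.prime_two⟩
  obtain ⟨s, hs⟩ := exists_prime_orderOf_dvd_card' 2 h
  have := s.2.2
  rw [Subgroup.orderOf_coe, hs] at this
  exact absurd this (by decide)

theorem exists_pow_slOdd (h2 : (2 : F) ≠ 0) {g : GL2} (htr : (g : M2).trace = 0) :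
    ∃ k, Nat.card (slComm g) = 2 ^ k * Nat.card (slOdd h2 htr) := by
  refine exists_pow_card (fun s hs => hs.1) (fun x hx => ?_) fun x hx ho => ⟨hx, ho⟩
  refine Subgroup.mem_normalizer_fintype fun n hn => ?_
  rw [commute_slComm h2 htr hx hn.1, mul_inv_cancel_right]
  exact hn

end Cfsg.Agent.Lib.GorensteinWalter.ModelsC
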